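import Cfsg.Agent.Lib.Fischer.Fi22Type.Action
import Cfsg.Agent.Lib.Fischer.Fi22Type.Data

/-!
# The seven permutations of the certificate
-/

set_option autoImplicit false
set_option maxRecDepth 100000

namespace Cfsg.Lib.Fischer.Fi22Type

theorem genPerm_lt : ∀ k < 7, ∀ i < 126, (genPerm.getD k []).getD i 0 < 126 := by decide +kernel

theorem genPerm_nodup : ∀ k < 7, (genPerm.getD k []).length = 126 ∧ (genPerm.getD k []).Nodup := by
  decide +kernel

theorem genPerm_inj (k : Fin 7) :
    Function.Injective fun i : Fin 126 =>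
      (⟨(genPerm.getD k.val []).getD i 0, genPerm_lt k k.2 i i.2⟩ : Fin 126) := by
  intro i j h
  obtain ⟨hlen, hnd⟩ := genPerm_nodup k k.2
  have hv := congrArg Fin.val h
  simp only at hv
  generalize genPerm.getD k.val [] = l at hlen hnd hv
  rw [List.getD_eq_getElem l 0 (show i.val < l.length by omega),
    List.getD_eq_getElem l 0 (show j.val < l.length by omega)] at hv
  exact Fin.ext ((hnd.getElem_inj_iff).1 hv)

/-- The permutations. -/
noncomputable def gperm (k : Fin 7) : Equiv.Perm (Fin 126) :=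
  permOfList _ (genPerm_lt k k.2) (genPerm_inj k)

theorem gperm_val (k : Fin 7) (i : Fin 126) : (gperm k i).val = (genPerm.getD k.val []).getD i.val 0 := rfl

theorem genIdx_lt : ∀ k < 7, genIdx.getD k 0 < 126 := by decide +kernel

/-- The places of the generators. -/
def gidx (k : Fin 7) : Fin 126 := ⟨genIdx.getD k.val 0, genIdx_lt k k.2⟩

theorem parents : ∀ i < 125, (parent.getD i 0) / 7 ≤ i ∧
    (genPerm.getD ((parent.getD i 0) % 7) []).getD ((parent.getD i 0) / 7) 0 = i + 1 := by decide +kernel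

theorem gperm_parent (i : Fin 126) (h : 0 < i.val) :
    ∃ k j, (j : Fin 126).val < i.val ∧ gperm k j = i := by
  obtain ⟨hle, he⟩ := parents (i.val - 1) (by omega)
  refine ⟨⟨parent.getD (i.val - 1) 0 % 7, Nat.mod_lt _ (by norm_num)⟩,
    ⟨parent.getD (i.val - 1) 0 / 7, by omega⟩, by show _ / 7 < _; omega, Fin.ext ?_⟩
  rw [gperm_val]
  show (genPerm.getD (parent.getD (i.val - 1) 0 % 7) []).getD (parent.getD (i.val - 1) 0 / 7) 0 = i.val
  omega

theorem gidx_zero : gidx ⟨0, by norm_num⟩ = ⟨0, by norm_num⟩ := by decide +kernel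

end Cfsg.Lib.Fischer.Fi22Type
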