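import Cfsg.Agent.Lib.CosetEnum.Trans.Defs
import Cfsg.Agent.Lib.CosetEnum.Fi22U62.Data
import Cfsg.Agent.Lib.Fischer.Fi22Type.Data

/-!
# The common neighbours of the first two generators in the table of Fi22
-/

set_option autoImplicit false
set_option maxRecDepth 100000

namespace Cfsg.Lib.Fischer.Fi22Type

open Cfsg.Lib.CosetEnum

/-- The conditions for a common neighbour. -/
def commonConds : List (List Nat × Bool) := [([0], true), ([1], true)]

/-- The listed points meet the conditions and are distinct. -/
noncomputable def pointsOK : Bool :=
  Nat.beq pointList.length 126 && pointList.Nodup &&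
    pointList.all fun q => Nat.blt q 3510 && !(Nat.beq q 0) && !(Nat.beq q 2) && condsB Fi22U62.tabP 9 commonConds q

theorem points_ok : pointsOK = true := by decide +kernel

theorem points_scan : scanOK Fi22U62.tabP 9 commonConds (elemN pointList) 3510 0 = true := by decide +kernel

/-- The generators permute the points as listed. -/
noncomputable def pointPermOK : Bool :=
  (List.range 7).all fun k => (genWords.getD k []).all (fun g => Nat.blt g 9) && Nat.blt (genIdx.getD k 0) 126 &&
    (List.range 126).all fun i => Nat.blt ((genPerm.getD k []).getD i 0) 126 &&
      Nat.beq (twalk Fi22U62.tabP 9 (genWords.getD k []) (pointList.getD i 0))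
        (pointList.getD ((genPerm.getD k []).getD i 0) 0)

theorem pointPerm_ok : pointPermOK = true := by decide +kernel

/-- Every place after the first comes from an earlier one. -/
def parentOK : Bool :=
  Nat.beq parent.length 125 && (List.range 125).all fun i =>
    Nat.ble ((parent.getD i 0) / 7) i &&
      Nat.beq ((genPerm.getD ((parent.getD i 0) % 7) []).getD ((parent.getD i 0) / 7) 0) (i + 1)

theorem parent_ok : parentOK = true := by decide +kernel



/-- The seven words represent the members at their places. -/
theorem genWords_short : genWords.take 6 = [[6], [5], [4], [3], [7], [8]] := by decide +kernel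

end Cfsg.Lib.Fischer.Fi22Type
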