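import Cfsg.Agent.Lib.CosetEnum.Trans.Basic
import Cfsg.Agent.Lib.CosetEnum.Fi22Table
import Cfsg.Agent.Lib.Fischer.Fi22Type.PointChecks
import Cfsg.Agent.Lib.Fischer.Fi22Type.Perms
import Cfsg.Agent.Lib.Fischer.Module

/-!
# The common neighbours of two transpositions of Fi22 as a permutation group of 126 places
-/

set_option autoImplicit false
set_option maxRecDepth 100000

namespace Cfsg.Lib.Fischer.Fi22Type

open Cfsg.Lib.CosetEnum Cfsg.Lib.CosetEnum.Fi22Out

variable {G : Type*} [Group G]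

theorem pointList_spec :
    pointList.length = 126 ∧ pointList.Nodup ∧
      ∀ q ∈ pointList, q < 3510 ∧ q ≠ 0 ∧ q ≠ 2 ∧ condsB Fi22U62.tabP 9 commonConds q = true := by
  have h := points_ok
  simp only [pointsOK, Bool.and_eq_true, List.all_eq_true, decide_eq_true_eq, Bool.not_eq_true',
    Nat.blt_eq] at h
  obtain ⟨⟨h1, h2⟩, h3⟩ := h
  refine ⟨Nat.eq_of_beq_eq_true h1, h2, fun q hq => ?_⟩
  obtain ⟨⟨⟨ha, hb⟩, hc⟩, hd⟩ := h3 q hq
  exact ⟨ha, fun e => by simp [e] at hb, fun e => by simp [e] at hc, hd⟩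

theorem pointAt_mem (i : Fin 126) : pointList.getD i.val 0 ∈ pointList := by
  have h := pointList_spec.1
  rw [List.getD_eq_getElem _ _ (h.symm ▸ i.2)]
  exact List.getElem_mem _

/-- The point at a place. -/
def pointAt (i : Fin 126) : Fin 3510 := ⟨pointList.getD i.val 0, (pointList_spec.2.2 _ (pointAt_mem i)).1⟩

theorem pointAt_injective : Function.Injective pointAt := by
  intro i j h
  have hl := pointList_spec.1
  have hv : pointList.getD i.val 0 = pointList.getD j.val 0 := congrArg Fin.val h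
  rw [List.getD_eq_getElem _ _ (hl.symm ▸ i.2), List.getD_eq_getElem _ _ (hl.symm ▸ j.2)] at hv
  exact Fin.ext (pointList_spec.2.1.getElem_inj_iff.1 hv)

theorem genWord_pts : ∀ k < 6, ∃ g < 9, genWords.getD k [] = [g] ∧
    Fi22Out.pts.getD g 0 = pointList.getD (genIdx.getD k 0) 0 := by decide +kernel

theorem genWord_last :
    genWords.getD 6 [] = conjWord [1, 2, 3, 4, 5, 7, 3, 2, 1, 4, 3, 2] ∧
      twalk Fi22U62.tabP 9 [1, 2, 3, 4, 5, 7, 3, 2, 1, 4, 3, 2] (Fi22Out.pts.getD 0 0) =
        pointList.getD (genIdx.getD 6 0) 0 := by decide +kernel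

/-- The common neighbours as a family permuted by seven of them as listed. -/
theorem common_family (A : TransTable G 3510) (hZ : A.Z = Fi22U62.tabP) (hk : A.k = 9)
    (hp : A.pts = Fi22Out.pts) :
    ∃ el : Fin 126 → G, Function.Injective el ∧
      perp (conjugatesOf A.d) (A.x 0) ∩ perp (conjugatesOf A.d) (A.x 1) = Set.range el ∧
      ∀ k i, el (gidx k) * el i * (el (gidx k))⁻¹ = el (gperm k i) := by
  have hx : ∀ g, g < 9 → ∀ q : Fin 3510, q.val = Fi22Out.pts.getD g 0 → A.delta q = A.x g := fun g hg q hq => by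
    rw [← A.delta_pts (hk.symm ▸ hg : g < A.k)]
    exact congrArg A.delta (Fin.ext (hq.trans (congrArg (fun l : List ℕ => l.getD g 0) hp.symm)))
  have hpts : Fi22Out.pts.getD 0 0 = 0 ∧ Fi22Out.pts.getD 1 0 = 2 := by decide
  have hfix : ∀ g, g < 9 → ∀ q : Fin 3510,
      (Commute (A.x g) (A.delta q) ↔ twalk Fi22U62.tabP 9 [g] q.val = q.val) := fun g hg q => by
    rw [commute_iff_eq, A.commute_gen_iff (hk.symm ▸ hg), hZ, hk]
  let el : Fin 126 → G := fun i => A.delta (pointAt i)
  have hS : perp (conjugatesOf A.d) (A.x 0) ∩ perp (conjugatesOf A.d) (A.x 1) = Set.range el := by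
    ext y
    constructor
    · rintro ⟨⟨hyD, -, hc0⟩, -, -, hc1⟩
      obtain ⟨q, rfl⟩ := (A.isConj_iff_exists y).1 hyD
      have hq : condsB Fi22U62.tabP 9 commonConds q.val = true := by
        rw [condsB_iff]
        intro c hc
        simp only [commonConds, List.mem_cons, List.not_mem_nil, or_false] at hc
        rcases hc with rfl | rfl
        · simp [(hfix 0 (by norm_num) q).1 hc0]
        · simp [(hfix 1 (by norm_num) q).1 hc1]
      have hm := elemN_iff.1 (scanOK_get points_scan q.val (Nat.zero_le _) (by omega) hq)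
      obtain ⟨i, hi, he⟩ := List.getElem_of_mem hm
      refine ⟨⟨i, pointList_spec.1 ▸ hi⟩, congrArg A.delta (Fin.ext ?_)⟩
      show pointList.getD i 0 = q.val
      rw [List.getD_eq_getElem _ _ hi, he]
    · rintro ⟨i, rfl⟩
      obtain ⟨-, h0, h2, hc⟩ := pointList_spec.2.2 _ (pointAt_mem i)
      rw [condsB_iff] at hc
      have hD : el i ∈ conjugatesOf A.d := (A.isConj_iff_exists _).2 ⟨_, rfl⟩
      refine ⟨⟨hD, fun e => h0 ?_, ?_⟩, hD, fun e => h2 ?_, ?_⟩
      · have := A.delta_injective (e.trans (hx 0 (by norm_num) ⟨0, by norm_num⟩ hpts.1.symm).symm)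
        exact congrArg Fin.val this
      · exact (hfix 0 (by norm_num) (pointAt i)).2 ((hc ([0], true) (by simp [commonConds])).2 rfl)
      · have := A.delta_injective (e.trans (hx 1 (by norm_num) ⟨2, by norm_num⟩ hpts.2.symm).symm)
        exact congrArg Fin.val this
      · exact (hfix 1 (by norm_num) (pointAt i)).2 ((hc ([1], true) (by simp [commonConds])).2 rfl)
  have hgenw : ∀ k : Fin 7, el (gidx k) = wordVal A.x (genWords.getD k.val []) := by
    intro k
    rcases Nat.lt_or_ge k.val 6 with h | h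
    · obtain ⟨g, hg, hw, he⟩ := genWord_pts k.val h
      rw [hw, A.wordVal_singleton (hk.symm ▸ hg)]
      exact hx g hg _ he.symm
    · have hk6 : k.val = 6 := by omega
      have hlt : ∀ g ∈ ([1, 2, 3, 4, 5, 7, 3, 2, 1, 4, 3, 2] : List ℕ), g < A.k := by rw [hk]; decide
      rw [hk6, genWord_last.1, ← A.delta_conjWord (by omega) hlt]
      refine congrArg A.delta (Fin.ext ?_)
      show pointList.getD (genIdx.getD k.val 0) 0 =
        twalk A.Z A.k [1, 2, 3, 4, 5, 7, 3, 2, 1, 4, 3, 2] (A.pts.getD 0 0)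
      rw [hk6, hZ, hk, hp, genWord_last.2]
  have hconj : ∀ k i, el (gidx k) * el i * (el (gidx k))⁻¹ = el (gperm k i) := by
    intro k i
    rw [hgenw]
    show _ * A.delta (pointAt i) * _ = A.delta (pointAt (gperm k i))
    rw [← A.delta_apply]
    refine congrArg A.delta (Fin.ext ?_)
    have h := pointPerm_ok
    simp only [pointPermOK, List.all_eq_true, List.mem_range, Bool.and_eq_true, Nat.blt_eq] at h
    obtain ⟨⟨hw, -⟩, hi⟩ := h k.val k.2
    rw [A.walk_apply (fun g hg => hk.symm ▸ hw g hg), hZ, hk]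
    exact Nat.eq_of_beq_eq_true (hi i.val i.2).2
  exact ⟨el, fun i j h => pointAt_injective (A.delta_injective h), hS, hconj⟩

theorem common_quot (A : TransTable G 3510) (hZ : A.Z = Fi22U62.tabP) (hk : A.k = 9)
    (hp : A.pts = Fi22Out.pts) (hd : A.d = A.x 0) :
    Nonempty (↥(Subgroup.closure (perp (conjugatesOf A.d) (A.x 0) ∩ perp (conjugatesOf A.d) (A.x 1))) ⧸
      Subgroup.center ↥(Subgroup.closure (perp (conjugatesOf A.d) (A.x 0) ∩ perp (conjugatesOf A.d) (A.x 1)))
        ≃* ↥(Subgroup.closure (Set.range gperm))) := by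
  obtain ⟨el, hinj, hS, hconj⟩ := common_family A hZ hk hp
  rw [hS]
  let el' : Fin 126 → ↥(Subgroup.closure (Set.range el)) := fun i =>
    ⟨el i, Subgroup.subset_closure ⟨i, rfl⟩⟩
  have hel : Subgroup.closure (Set.range el') = ⊤ := closure_range_lift el rfl
  have hp' : ∀ k i, el' (gidx k) * el' i * (el' (gidx k))⁻¹ = el' (gperm k i) := fun k i =>
    Subtype.ext (hconj k i)
  have hgen : Subgroup.closure (Set.range (el' ∘ gidx)) = ⊤ :=
    (closure_family_eq el' (by norm_num) gidx gperm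
      (Subgroup.subset_closure ⟨⟨0, by norm_num⟩, congrArg el' gidx_zero⟩) hp' gperm_parent).trans hel
  exact quot_center_perm el'
    (fun i j h => hinj (congrArg Subtype.val h)) hel (el' ∘ gidx) hgen gperm hp'

end Cfsg.Lib.Fischer.Fi22Type
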