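import Cfsg.Agent.Lib.CosetEnum.U62Double.Centralizer
import Cfsg.Agent.Lib.Fischer.Fi22Type.Refl
import Cfsg.Agent.Lib.Fischer.Fi22Type.Common
import Cfsg.Agent.S1684
import Cfsg.Agent.S5361

/-!
# The presented Fischer group Fi22 is of type M(22)
-/

set_option autoImplicit false
set_option maxRecDepth 100000

namespace Cfsg.Lib.Fischer.Fi22Type

open Cfsg Cfsg.Spor Cfsg.Lib.CosetEnum Cfsg.Lib.CosetEnum.U62Double

/-- The centraliser of the first generator is the group of the nine words. -/
theorem centralizer_eq_words (A : TransTable Spor.Fi22 3510) (hZ : A.Z = Fi22U62.tabP) (hk : A.k = 9)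
    (hx : A.x = Fi22Pres.numbering.gens Fi22.extra) (hd : A.d = A.x 0)
    (hidx : (Subgroup.centralizer ({A.d} : Set Spor.Fi22)).index = 3510) :
    Subgroup.centralizer ({A.d} : Set Spor.Fi22) =
      Subgroup.closure (wordVal A.x '' {u | u ∈ Fi22U62.subWords}) := by
  have : Finite Spor.Fi22 := Nat.finite_of_card_ne_zero (by rw [Fi22Pres.isFi22.2]; decide)
  have htab : ∀ {R : List (List ℕ)} {r : List ℕ}, permOK Fi22U62.tabP 9 3510 R 3510 0 = true → r ∈ R →
      (∀ a ∈ r, a < 9) → wordVal A.x r = 1 := by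
    intro R r hR hr hlt
    apply A.inj
    rw [map_wordVal_tperm A.x A.f A.k_le A.f_gen (fun a ha => hk ▸ hlt a ha), map_one, hZ, hk]
    exact wordVal_tperm_eq_one hR (by decide) hr
  have hx0 : wordVal A.x [0] = A.d := by
    rw [hd, wordVal, wordVal, CosetEnum.gen, if_neg (by simp only [eps]; omega), one_mul]
  have hmem : ∀ g < fiWords.length,
      wordVal A.x (fiWords.getD g []) ∈ Subgroup.centralizer ({A.d} : Set Spor.Fi22) := by
    intro g hg
    rw [Subgroup.mem_centralizer_singleton_iff]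
    have h1 := htab (r := fiWords.getD g [] ++ [0] ++ (fiWords.getD g []).reverse ++ [0]) comm_ok
      (List.mem_map.2 ⟨_, by rw [List.getD_eq_getElem _ _ hg]; exact List.getElem_mem hg, rfl⟩)
      (fun a ha => by
        simp only [List.mem_append, List.mem_reverse, List.mem_singleton] at ha
        rcases ha with ((h | h) | h) | h
        exacts [fiWords_lt g a h, by omega, fiWords_lt g a h, by omega])
    rw [wordVal_append, wordVal_append, wordVal_append, wordVal_reverse A.sq, hx0] at h1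
    set u := wordVal A.x (fiWords.getD g [])
    have h2 : A.d * A.d = 1 := by rw [hd, A.sq]
    calc u * A.d = u * A.d * (A.d * (u⁻¹ * (A.d * u))) := by rw [h1, mul_one]
      _ = u * (A.d * A.d) * u⁻¹ * A.d * u := by group
      _ = A.d * u := by rw [h2, mul_one, mul_inv_cancel, one_mul]
  have hle : Subgroup.closure (wordVal A.x '' {u | u ∈ Fi22U62.subWords}) ≤
      Subgroup.centralizer ({A.d} : Set Spor.Fi22) := by
    rw [Subgroup.closure_le]
    rintro _ ⟨u, hu, rfl⟩
    have hlen : Fi22U62.subWords = [0] :: fiWords := by decide +kernel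
    have hu' : u = [0] ∨ u ∈ fiWords := by simpa [hlen] using hu
    rcases hu' with rfl | hu'
    · rw [SetLike.mem_coe, hx0, Subgroup.mem_centralizer_singleton_iff]
    · obtain ⟨i, hi, rfl⟩ := List.getElem_of_mem hu'
      have := hmem i hi
      rwa [List.getD_eq_getElem _ _ hi] at this
  let N := Fi22Pres.numbering
  have hK := N.map_closure Fi22.extra (Us := [Fi22.a, Fi22.c, Fi22.d, Fi22.e, Fi22.f, Fi22.g, Fi22.h, Fi22.i,
      (Fi22.a * Fi22.b * Fi22.c * Fi22.d * Fi22.e * Fi22.h) ^ 5])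
    (U := Fi22U62.subWords)
    (by simp [Fi22U62.subWords, wordVal, CosetEnum.gen, eps, N, Fi22Pres.numbering, Fi22Pres.num, pow_succ,
      mul_assoc])
    (s := {Fi22.a, Fi22.c, Fi22.d, Fi22.e, Fi22.f, Fi22.g, Fi22.h, Fi22.i,
      (Fi22.a * Fi22.b * Fi22.c * Fi22.d * Fi22.e * Fi22.h) ^ 5})
    (by ext w; simp)
  obtain ⟨hH, -⟩ := Cfsg.Agent.S1687.result
  rw [hK, ← hx] at hH
  refine (Subgroup.eq_of_le_of_card_ge hle ?_).symm
  have e1 := Subgroup.card_mul_index (Subgroup.closure (wordVal A.x '' {u | u ∈ Fi22U62.subWords}))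
  have e2 := Subgroup.card_mul_index (Subgroup.centralizer ({A.d} : Set Spor.Fi22))
  rw [hH] at e1
  rw [hidx] at e2
  omega

/-- The centraliser modulo its centre of order two is PSU(6, 2). -/
theorem centralizer_quot (A : TransTable Spor.Fi22 3510) (hZ : A.Z = Fi22U62.tabP) (hk : A.k = 9)
    (hx : A.x = Fi22Pres.numbering.gens Fi22.extra) (hd : A.d = A.x 0)
    (hidx : (Subgroup.centralizer ({A.d} : Set Spor.Fi22)).index = 3510) :
    ∃ (K : Type) (_ : Field K) (_ : Fintype K), Fintype.card K = 4 ∧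
      Nat.card (Subgroup.center ↥(Subgroup.centralizer ({A.d} : Set Spor.Fi22))) = 2 ∧
      Nonempty (↥(Subgroup.centralizer ({A.d} : Set Spor.Fi22)) ⧸
        Subgroup.center ↥(Subgroup.centralizer ({A.d} : Set Spor.Fi22)) ≃* Cfsg.PSU 6 K 2) := by
  obtain ⟨K, i1, i2, hK4, hcov⟩ := Cfsg.Agent.S1684.result
  let N := Fi22Pres.numbering
  have hK := N.map_closure Fi22.extra (Us := [Fi22.a, Fi22.c, Fi22.d, Fi22.e, Fi22.f, Fi22.g, Fi22.h, Fi22.i,
      (Fi22.a * Fi22.b * Fi22.c * Fi22.d * Fi22.e * Fi22.h) ^ 5])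
    (U := Fi22U62.subWords)
    (by simp [Fi22U62.subWords, wordVal, CosetEnum.gen, eps, N, Fi22Pres.numbering, Fi22Pres.num, pow_succ,
      mul_assoc])
    (s := {Fi22.a, Fi22.c, Fi22.d, Fi22.e, Fi22.f, Fi22.g, Fi22.h, Fi22.i,
      (Fi22.a * Fi22.b * Fi22.c * Fi22.d * Fi22.e * Fi22.h) ^ 5})
    (by ext w; simp)
  rw [hK, ← hx, ← centralizer_eq_words A hZ hk hx hd hidx] at hcov
  exact ⟨K, i1, i2, hK4, hcov.1, hcov.2.1⟩

/-- A normal subgroup outside the centre of a group with simple central quotient has the same central quotient. -/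
theorem quot_center_equiv {C : Type*} [Group C] (hs : IsSimpleGroup (C ⧸ Subgroup.center C)) (H : Subgroup C)
    [H.Normal] (hne : ¬ H ≤ Subgroup.center C) :
    Nonempty (↥H ⧸ Subgroup.center ↥H ≃* C ⧸ Subgroup.center C) := by
  let q := QuotientGroup.mk' (Subgroup.center C)
  let ψ : ↥H →* C ⧸ Subgroup.center C := q.comp H.subtype
  have hr : ψ.range = H.map q := by rw [MonoidHom.range_comp, H.range_subtype]
  have hsurj : Function.Surjective ψ := by
    rw [← MonoidHom.range_eq_top, hr]
    have hn : (H.map q).Normal := Subgroup.Normal.map inferInstance q (QuotientGroup.mk'_surjective _)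
    refine hn.eq_bot_or_eq_top.resolve_left fun h => hne ?_
    rwa [Subgroup.map_eq_bot_iff, QuotientGroup.ker_mk'] at h
  have hker : ψ.ker = Subgroup.center ↥H := by
    ext h
    rw [MonoidHom.mem_ker, MonoidHom.comp_apply, Subgroup.mem_center_iff]
    show ((h : C) : C ⧸ Subgroup.center C) = 1 ↔ _
    rw [QuotientGroup.eq_one_iff]
    constructor
    · exact fun hh g => Subtype.ext (Subgroup.mem_center_iff.1 hh g)
    · intro hh
      rw [Subgroup.mem_center_iff]
      intro c
      obtain ⟨u, hu⟩ := hsurj (c : C ⧸ Subgroup.center C)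
      have hz : (u : C)⁻¹ * c ∈ Subgroup.center C := QuotientGroup.eq.1 hu
      have hcomm : (u : C) * h = h * u := congrArg Subtype.val (hh u)
      have h3 : ((u : C)⁻¹ * c) * h = h * ((u : C)⁻¹ * c) := (Subgroup.mem_center_iff.1 hz h).symm
      calc c * h = (u : C) * (((u : C)⁻¹ * c) * h) := by group
        _ = (u : C) * h * ((u : C)⁻¹ * c) := by rw [h3, mul_assoc]
        _ = h * c := by rw [hcomm]; group
  exact ⟨(QuotientGroup.quotientMulEquivOfEq hker.symm).trans (QuotientGroup.quotientKerEquivOfSurjective ψ hsurj)⟩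

theorem map_center_equiv {M N : Type*} [Group M] [Group N] (e : M ≃* N) :
    (Subgroup.center M).map (e : M →* N) = Subgroup.center N := by
  ext z
  rw [show (e : M →* N) = e.toMonoidHom from rfl, Subgroup.mem_map_equiv, Subgroup.mem_center_iff,
    Subgroup.mem_center_iff]
  exact ⟨fun h g => by simpa using congrArg e (h (e.symm g)), fun h g => by simpa using congrArg e.symm (h (e g))⟩

/-- The presented Fischer group with the class of its first generator is of type M(22). -/
theorem fi22_type : ∃ D : Set Spor.Fi22, D = conjugatesOf (Fi22Pres.numbering.gens Fi22.extra 0) ∧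
    Cfsg.IsThreeTranspositionClass D ∧ Cfsg.IsPrimitiveUnderConj D ∧ Cfsg.IsOfTypeM22 Spor.Fi22 D := by
  obtain ⟨A, hZ, hk, hp, hx, hd, hp0, hdne, hidx, hcls⟩ := Fi22Out.exists_table
  refine ⟨conjugatesOf A.d, by rw [hd, hx], hcls, ?_⟩
  have hfin : Finite Spor.Fi22 := Nat.finite_of_card_ne_zero (by rw [Fi22Pres.isFi22.2]; decide)
  have hsimple : IsSimpleGroup Spor.Fi22 := Fi22Pres.isFi22.1
  have hcenter : Subgroup.center Spor.Fi22 = ⊥ := by
    refine ((Subgroup.center Spor.Fi22).normal_of_characteristic.eq_bot_or_eq_top).resolve_right fun h => ?_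
    have hcen : Subgroup.centralizer ({A.d} : Set Spor.Fi22) = ⊤ := by
      rw [eq_top_iff]
      intro u _
      rw [Subgroup.mem_centralizer_singleton_iff]
      exact Subgroup.mem_center_iff.1 (h ▸ Subgroup.mem_top A.d) u
    rw [hcen, Subgroup.index_top] at hidx
    omega
  have hperf : commutator Spor.Fi22 = ⊤ := by
    refine ((commutator Spor.Fi22).normal_of_characteristic.eq_bot_or_eq_top).resolve_left fun h => ?_
    rw [commutator_def, Subgroup.commutator_eq_bot_iff_le_centralizer, Subgroup.coe_top,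
      Subgroup.centralizer_univ, hcenter] at h
    exact hdne (Subgroup.mem_bot.1 (h (Subgroup.mem_top _)))
  have hfix : ∀ g < 9, ∀ q : ℕ, Fi22Out.pts.getD q 0 < 3510 → q < 9 →
      (Commute (A.x g) (A.x q) ↔ twalk Fi22U62.tabP 9 [g] (Fi22Out.pts.getD q 0) = Fi22Out.pts.getD q 0) :=
    fun g hg q _ hq => by
      rw [commute_iff_eq, ← A.delta_pts (hk.symm ▸ hq : q < A.k), A.commute_gen_iff (hk.symm ▸ hg)]
      simp only [hZ, hk, hp]
  have hxne : A.x 2 ≠ A.x 0 := by
    intro h
    rw [← A.delta_pts (hk.symm ▸ (by norm_num : 2 < 9) : 2 < A.k),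
      ← A.delta_pts (hk.symm ▸ (by norm_num : 0 < 9) : 0 < A.k)] at h
    have := congrArg Fin.val (A.delta_injective h)
    simp only [hp] at this
    exact absurd this (by decide)
  have hc02 : Commute (A.x 0) (A.x 2) := (hfix 0 (by norm_num) 2 (by decide) (by norm_num)).2 (by decide +kernel)
  have hc01 : ¬ Commute (A.x 0) (A.x 1) := fun h =>
    absurd ((hfix 0 (by norm_num) 1 (by decide) (by norm_num)).1 h) (by decide +kernel)
  have hxD : ∀ g < 9, A.x g ∈ conjugatesOf A.d := fun g hg =>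
    (A.isConj_iff_exists _).2 ⟨_, A.delta_pts (hk.symm ▸ hg : g < A.k)⟩
  have hd0 : A.d ∈ conjugatesOf A.d := mem_conjugatesOf_self
  have hw : ∃ a ∈ conjugatesOf A.d, ∃ b ∈ conjugatesOf A.d, a ≠ b ∧ Commute a b :=
    ⟨A.x 0, hxD 0 (by norm_num), A.x 2, hxD 2 (by norm_num), hxne.symm, hc02⟩
  have hsimp' : IsSimpleGroup ↥(commutator Spor.Fi22) := by
    rw [hperf]
    exact (Subgroup.topEquiv (G := Spor.Fi22)).isSimpleGroup
  refine ⟨(Cfsg.Agent.S5361.result hcls hcenter hw).1.1 hsimp', hcenter, A.x 0, hxD 0 (by norm_num),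
    A.x 1, hxD 1 (by norm_num), hc01, ?_, (1 : ZMod 3), one_ne_zero, formPath, formPath_nondegenerate, formPath_det, ?_⟩
  · obtain ⟨K, i1, i2, hK4, hc2, ⟨e⟩⟩ := centralizer_quot A hZ hk hx hd hidx
    refine ⟨K, i1, i2, hK4, ?_⟩
    rw [hd] at hc2 e
    set C := Subgroup.centralizer ({A.x 0} : Set Spor.Fi22)
    set S := perp (conjugatesOf A.d) (A.x 0) with hS
    show Nonempty (↥(Subgroup.closure S) ⧸ Subgroup.center ↥(Subgroup.closure S) ≃* Cfsg.PSU 6 K 2)
    have hSC : Subgroup.closure S ≤ C := (Subgroup.closure_le _).2 fun y hy =>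
      Subgroup.mem_centralizer_singleton_iff.2 hy.2.2.eq.symm
    have hnorm : ((Subgroup.closure S).subgroupOf C).Normal := by
      refine Subgroup.normal_subgroupOf_iff hSC |>.2 fun h c hh hc => ?_
      induction hh using Subgroup.closure_induction with
      | mem y hy =>
        refine Subgroup.subset_closure ⟨hy.1.trans (isConj_iff.2 ⟨c, rfl⟩), fun e => hy.2.1 ?_, ?_⟩
        · have hc' := Subgroup.mem_centralizer_singleton_iff.1 hc
          calc y = c⁻¹ * (c * y * c⁻¹) * c := by group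
            _ = c⁻¹ * A.x 0 * c := by rw [e]
            _ = A.x 0 := by rw [mul_assoc, ← hc']; group
        · have hc' : Commute c (A.x 0) := Subgroup.mem_centralizer_singleton_iff.1 hc
          exact (hc'.symm.mul_right hy.2.2).mul_right hc'.symm.inv_right
      | one => simp
      | mul u v _ _ hu hv => simpa [mul_assoc] using mul_mem hu hv
      | inv u _ hu => simpa [mul_assoc] using inv_mem hu
    have hne : ¬ (Subgroup.closure S).subgroupOf C ≤ Subgroup.center ↥C := by
      intro hle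
      have h2mem : A.x 2 ∈ C := Subgroup.mem_centralizer_singleton_iff.2 hc02.eq.symm
      have hz2 : (⟨A.x 2, h2mem⟩ : C) ∈ Subgroup.center ↥C := hle (Subgroup.mem_subgroupOf.2
        (Subgroup.subset_closure ⟨hxD 2 (by norm_num), hxne, hc02⟩))
      have h0mem : A.x 0 ∈ C := Subgroup.mem_centralizer_singleton_iff.2 rfl
      have hz0 : (⟨A.x 0, h0mem⟩ : C) ∈ Subgroup.center ↥C := Subgroup.mem_center_iff.2 fun u =>
        Subtype.ext (Subgroup.mem_centralizer_singleton_iff.1 u.2)
      obtain ⟨a, b, -, hab⟩ := Nat.card_eq_two_iff.1 hc2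
      have h1 := hab.symm.subset (Set.mem_univ (1 : Subgroup.center ↥C))
      have h2 := hab.symm.subset (Set.mem_univ (⟨_, hz2⟩ : Subgroup.center ↥C))
      have h0 := hab.symm.subset (Set.mem_univ (⟨_, hz0⟩ : Subgroup.center ↥C))
      have hone : ∀ g < 9, A.x g ≠ 1 := fun g hg h => by
        have := hcls.1.1 _ (hxD g hg)
        rw [h, orderOf_one] at this
        omega
      have n02 : (⟨_, hz2⟩ : Subgroup.center ↥C) ≠ ⟨_, hz0⟩ := fun h => hxne (congrArg (fun z : Subgroup.center ↥C => ((z : C) : Spor.Fi22)) h)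
      have n2 : (⟨_, hz2⟩ : Subgroup.center ↥C) ≠ 1 := fun h => hone 2 (by norm_num) (congrArg (fun z : Subgroup.center ↥C => ((z : C) : Spor.Fi22)) h)
      have n0 : (⟨_, hz0⟩ : Subgroup.center ↥C) ≠ 1 := fun h => hone 0 (by norm_num) (congrArg (fun z : Subgroup.center ↥C => ((z : C) : Spor.Fi22)) h)
      simp only [Set.mem_insert_iff, Set.mem_singleton_iff] at h1 h2 h0
      rcases h1 with h1 | h1 <;> rcases h2 with h2 | h2 <;> rcases h0 with h0 | h0
      all_goals first
        | exact n02 (h2.trans h0.symm)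
        | exact n2 (h2.trans h1.symm)
        | exact n0 (h0.trans h1.symm)
    have hsC : IsSimpleGroup (↥C ⧸ Subgroup.center ↥C) := by
      have := Cfsg.Lib.Linear.Herm.psu_simple (q := 2) (n := 6) (F := K) (by rw [hK4]; rfl) (by norm_num)
      exact e.isSimpleGroup
    obtain ⟨e'⟩ := quot_center_equiv hsC ((Subgroup.closure S).subgroupOf C) hne
    let eH : ↥((Subgroup.closure S).subgroupOf C) ≃* ↥(Subgroup.closure S) := Subgroup.subgroupOfEquivOfLe hSC
    exact ⟨((QuotientGroup.congr _ _ eH.symm (map_center_equiv eH.symm)).trans e').trans e⟩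
  · obtain ⟨e1⟩ := common_quot A hZ hk hp hd
    obtain ⟨e2⟩ := refl_quot
    exact ⟨e1.trans e2.symm⟩

end Cfsg.Lib.Fischer.Fi22Type
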