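import Mathlib

/-!
# A group modulo its centre as the permutation group of a generating family closed under conjugation
-/

set_option autoImplicit false

namespace Cfsg.Lib.Fischer.Fi22Type

variable {X : Type*} [Group X] {n m : ℕ}

/-- Orbit induction along a parent list: every place is reached from the first. -/
theorem reach_all {p : Fin m → Equiv.Perm (Fin n)} (hn : 0 < n)
    (hpar : ∀ i : Fin n, 0 < i.val → ∃ k j, (j : Fin n).val < i.val ∧ p k j = i) (P : Fin n → Prop)
    (h0 : P ⟨0, hn⟩) (hstep : ∀ k i, P i → P (p k i)) : ∀ i, P i := by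
  intro i
  induction i using WellFoundedLT.induction with
  | ind i ih =>
    rcases Nat.eq_zero_or_pos i.val with h | h
    · rwa [show i = ⟨0, hn⟩ from Fin.ext h]
    · obtain ⟨k, j, hj, rfl⟩ := hpar i h
      exact hstep k j (ih j hj)

/-- The quotient by the centre is generated, as a permutation group, by the listed permutations. -/
theorem quot_center_perm (el : Fin n → X) (hinj : Function.Injective el)
    (hel : Subgroup.closure (Set.range el) = ⊤) (g : Fin m → X) (hgen : Subgroup.closure (Set.range g) = ⊤)
    (p : Fin m → Equiv.Perm (Fin n)) (hp : ∀ k i, g k * el i * (g k)⁻¹ = el (p k i)) :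
    Nonempty (X ⧸ Subgroup.center X ≃* ↥(Subgroup.closure (Set.range p))) := by
  classical
  let N : Subgroup X :=
    { carrier := {x | ∃ σ : Equiv.Perm (Fin n), ∀ i, x * el i * x⁻¹ = el (σ i)}
      one_mem' := ⟨1, fun i => by simp⟩
      mul_mem' := by
        rintro a b ⟨σ, hσ⟩ ⟨τ, hτ⟩
        refine ⟨σ * τ, fun i => ?_⟩
        rw [Equiv.Perm.mul_apply, ← hσ, ← hτ]
        group
      inv_mem' := by
        rintro a ⟨σ, hσ⟩
        refine ⟨σ⁻¹, fun i => ?_⟩
        have := hσ (σ⁻¹ i)
        rw [Equiv.Perm.inv_def, Equiv.apply_symm_apply] at this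
        rw [Equiv.Perm.inv_def, ← this]
        group }
  have hN : ∀ x : X, ∃ σ : Equiv.Perm (Fin n), ∀ i, x * el i * x⁻¹ = el (σ i) := fun x => by
    have hle : Subgroup.closure (Set.range g) ≤ N :=
      (Subgroup.closure_le _).2 (by rintro _ ⟨k, rfl⟩; exact ⟨p k, hp k⟩)
    exact hle (hgen ▸ Subgroup.mem_top x)
  choose σ hσ using hN
  let π : X →* Equiv.Perm (Fin n) :=
    { toFun := σ
      map_one' := Equiv.ext fun i => hinj (by rw [← hσ]; simp)
      map_mul' := fun a b => Equiv.ext fun i => hinj (by
        rw [← hσ, Equiv.Perm.mul_apply, ← hσ a, ← hσ b]; group) }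
  have hπg : ∀ k, π (g k) = p k := fun k => Equiv.ext fun i => hinj ((hσ (g k) i).symm.trans (hp k i))
  have hker : π.ker = Subgroup.center X := by
    ext x
    rw [MonoidHom.mem_ker, Subgroup.mem_center_iff]
    constructor
    · intro hx y
      have hle : Subgroup.closure (Set.range el) ≤ Subgroup.centralizer ({x} : Set X) := by
        rw [Subgroup.closure_le]
        rintro _ ⟨i, rfl⟩
        rw [SetLike.mem_coe, Subgroup.mem_centralizer_singleton_iff]
        have h := hσ x i
        rw [show σ x = 1 from hx, Equiv.Perm.one_apply, mul_inv_eq_iff_eq_mul] at h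
        exact h.symm
      exact Subgroup.mem_centralizer_singleton_iff.1 (hle (hel ▸ Subgroup.mem_top y))
    · intro hx
      refine Equiv.ext fun i => hinj ?_
      show el (σ x i) = el i
      rw [← hσ x i, ← hx (el i), mul_inv_cancel_right]
  have hrange : π.range = Subgroup.closure (Set.range p) := by
    rw [MonoidHom.range_eq_map, ← hgen, MonoidHom.map_closure, ← Set.range_comp]
    exact congrArg (fun q => Subgroup.closure (Set.range q)) (funext hπg)
  exact ⟨((QuotientGroup.quotientMulEquivOfEq hker.symm).trans
    (QuotientGroup.quotientKerEquivRange π)).trans (MulEquiv.subgroupCongr hrange)⟩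

/-- A family reached from its first member by a generating subfamily is generated by the subfamily. -/
theorem closure_family_eq (el : Fin n → X) (hn : 0 < n) (idx : Fin m → Fin n) (p : Fin m → Equiv.Perm (Fin n))
    (h0 : el ⟨0, hn⟩ ∈ Subgroup.closure (Set.range (el ∘ idx)))
    (hp : ∀ k i, el (idx k) * el i * (el (idx k))⁻¹ = el (p k i))
    (hpar : ∀ i : Fin n, 0 < i.val → ∃ k j, (j : Fin n).val < i.val ∧ p k j = i) :
    Subgroup.closure (Set.range (el ∘ idx)) = Subgroup.closure (Set.range el) := by
  refine le_antisymm (Subgroup.closure_mono (Set.range_comp_subset_range idx el)) ((Subgroup.closure_le _).2 ?_)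
  rintro _ ⟨i, rfl⟩
  refine reach_all hn hpar (fun i => el i ∈ Subgroup.closure (Set.range (el ∘ idx))) h0 (fun k i hi => ?_) i
  rw [← hp]
  have hk : el (idx k) ∈ Subgroup.closure (Set.range (el ∘ idx)) := Subgroup.subset_closure ⟨k, rfl⟩
  exact mul_mem (mul_mem hk hi) (inv_mem hk)

/-- A family of a group generates its closure. -/
theorem closure_range_lift (el : Fin n → X) {S : Set X} (hS : S = Set.range el) :
    Subgroup.closure (Set.range fun i =>
      (⟨el i, Subgroup.subset_closure (hS ▸ ⟨i, rfl⟩)⟩ : ↥(Subgroup.closure S))) = ⊤ := by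
  subst hS
  convert Subgroup.closure_closure_coe_preimage (k := Set.range el)
  ext x
  constructor
  · rintro ⟨i, rfl⟩; exact ⟨i, rfl⟩
  · rintro ⟨i, hi⟩; exact ⟨i, Subtype.ext hi⟩

/-- The permutation of a list of places, given that it is injective. -/
noncomputable def permOfList (l : List ℕ) (h : ∀ i, i < n → l.getD i 0 < n)
    (hinj : Function.Injective fun i : Fin n => (⟨l.getD i 0, h i i.2⟩ : Fin n)) : Equiv.Perm (Fin n) :=
  Equiv.ofBijective _ (Finite.injective_iff_bijective.1 hinj)

end Cfsg.Lib.Fischer.Fi22Type
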