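import Cfsg.Agent.Lib.Fischer.Fi22Type.Common
import Cfsg.Agent.Lib.Fischer.Fi22Type.Refl

/-!
# The common neighbours of two transpositions of Fi22 correspond to the reflections, member by member
-/

set_option autoImplicit false
set_option maxRecDepth 100000

namespace Cfsg.Lib.Fischer.Fi22Type

open Cfsg.Lib.CosetEnum Cfsg.Lib.CosetEnum.Fi22Out

/-- An element permuting a generating family is central exactly when it fixes it. -/
theorem center_iff_perm {Z : Type*} [Group Z] {n : ℕ} (f : Fin n → Z) (hf : Function.Injective f)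
    (hfg : Subgroup.closure (Set.range f) = ⊤) (z : Z) {σ : Equiv.Perm (Fin n)}
    (hz : ∀ i, z * f i * z⁻¹ = f (σ i)) : z ∈ Subgroup.center Z ↔ σ = 1 := by
  rw [Subgroup.mem_center_iff]
  constructor
  · intro h
    exact Equiv.ext fun i => hf (by rw [← hz, ← h (f i), mul_inv_cancel_right]; rfl)
  · intro h y
    have hle : Subgroup.closure (Set.range f) ≤ Subgroup.centralizer ({z} : Set Z) := by
      rw [Subgroup.closure_le]
      rintro _ ⟨i, rfl⟩
      rw [SetLike.mem_coe, Subgroup.mem_centralizer_singleton_iff]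
      have h' := hz i
      rw [h, Equiv.Perm.one_apply, mul_inv_eq_iff_eq_mul] at h'
      exact h'.symm
    exact Subgroup.mem_centralizer_singleton_iff.1 (hle (hfg ▸ Subgroup.mem_top y))

/-- Two generated groups with families permuted alike by a generating subfamily have central quotients
isomorphic family by family. -/
theorem quot_center_pair {X Y : Type*} [Group X] [Group Y] {n m : ℕ} (hn : 0 < n) (el : Fin n → X) (el' : Fin n → Y)
    (hinj : Function.Injective el) (hinj' : Function.Injective el')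
    (hel : Subgroup.closure (Set.range el) = ⊤) (hel' : Subgroup.closure (Set.range el') = ⊤)
    (idx : Fin m → Fin n) (p : Fin m → Equiv.Perm (Fin n)) (k₀ : Fin m) (h0 : idx k₀ = ⟨0, hn⟩)
    (hpar : ∀ i : Fin n, 0 < i.val → ∃ k j, (j : Fin n).val < i.val ∧ p k j = i)
    (hp : ∀ k i, el (idx k) * el i * (el (idx k))⁻¹ = el (p k i))
    (hp' : ∀ k i, el' (idx k) * el' i * (el' (idx k))⁻¹ = el' (p k i)) :
    ∃ e : X ⧸ Subgroup.center X ≃* Y ⧸ Subgroup.center Y,
      ∀ i, e (QuotientGroup.mk (el i)) = QuotientGroup.mk (el' i) := by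
  let Γ : Subgroup (X × Y) :=
    { carrier := {a | ∃ σ : Equiv.Perm (Fin n),
        (∀ i, a.1 * el i * a.1⁻¹ = el (σ i)) ∧ ∀ i, a.2 * el' i * a.2⁻¹ = el' (σ i)}
      one_mem' := ⟨1, fun i => by simp, fun i => by simp⟩
      mul_mem' := by
        rintro a b ⟨σ, hσ, hσ'⟩ ⟨τ, hτ, hτ'⟩
        refine ⟨σ * τ, fun i => ?_, fun i => ?_⟩
        · rw [Equiv.Perm.mul_apply, ← hσ, ← hτ, Prod.fst_mul]; group
        · rw [Equiv.Perm.mul_apply, ← hσ', ← hτ', Prod.snd_mul]; group
      inv_mem' := by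
        rintro a ⟨σ, hσ, hσ'⟩
        refine ⟨σ⁻¹, fun i => ?_, fun i => ?_⟩
        · have := hσ (σ⁻¹ i)
          rw [Equiv.Perm.inv_def, Equiv.apply_symm_apply] at this
          rw [Equiv.Perm.inv_def, Prod.fst_inv, ← this]; group
        · have := hσ' (σ⁻¹ i)
          rw [Equiv.Perm.inv_def, Equiv.apply_symm_apply] at this
          rw [Equiv.Perm.inv_def, Prod.snd_inv, ← this]; group }
  have hgen : ∀ k, (el (idx k), el' (idx k)) ∈ Γ := fun k => ⟨p k, hp k, hp' k⟩
  have hall : ∀ i, (el i, el' i) ∈ Γ := reach_all hn hpar _ (h0 ▸ hgen k₀) fun k i hi => by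
    rw [← hp k i, ← hp' k i]
    exact mul_mem (mul_mem (hgen k) hi) (inv_mem (hgen k))
  have hcent : ∀ a ∈ Γ, a.1 ∈ Subgroup.center X ↔ a.2 ∈ Subgroup.center Y := by
    rintro a ⟨σ, hσ, hσ'⟩
    exact (center_iff_perm el hinj hel a.1 hσ).trans (center_iff_perm el' hinj' hel' a.2 hσ').symm
  let f : ↥Γ →* X ⧸ Subgroup.center X := (QuotientGroup.mk' _).comp ((MonoidHom.fst X Y).comp Γ.subtype)
  let f' : ↥Γ →* Y ⧸ Subgroup.center Y := (QuotientGroup.mk' _).comp ((MonoidHom.snd X Y).comp Γ.subtype)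
  have hf : Function.Surjective f := by
    intro q
    obtain ⟨x, rfl⟩ := QuotientGroup.mk_surjective q
    have hle : Subgroup.closure (Set.range el) ≤ Γ.map (MonoidHom.fst X Y) :=
      (Subgroup.closure_le _).2 (by rintro _ ⟨i, rfl⟩; exact ⟨_, hall i, rfl⟩)
    obtain ⟨a, ha, rfl⟩ := hle (hel ▸ Subgroup.mem_top x)
    exact ⟨⟨a, ha⟩, rfl⟩
  have hf' : Function.Surjective f' := by
    intro q
    obtain ⟨x, rfl⟩ := QuotientGroup.mk_surjective q
    have hle : Subgroup.closure (Set.range el') ≤ Γ.map (MonoidHom.snd X Y) :=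
      (Subgroup.closure_le _).2 (by rintro _ ⟨i, rfl⟩; exact ⟨_, hall i, rfl⟩)
    obtain ⟨a, ha, rfl⟩ := hle (hel' ▸ Subgroup.mem_top x)
    exact ⟨⟨a, ha⟩, rfl⟩
  have hker : f.ker = f'.ker := by
    ext a
    rw [MonoidHom.mem_ker, MonoidHom.mem_ker]
    exact ((QuotientGroup.eq_one_iff _).trans (hcent a.1 a.2)).trans (QuotientGroup.eq_one_iff _).symm
  refine ⟨((QuotientGroup.quotientKerEquivOfSurjective f hf).symm.trans
    (QuotientGroup.quotientMulEquivOfEq hker)).trans (QuotientGroup.quotientKerEquivOfSurjective f' hf'), fun i => ?_⟩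
  have e1 : (QuotientGroup.quotientKerEquivOfSurjective f hf).symm (QuotientGroup.mk (el i)) =
      QuotientGroup.mk (⟨_, hall i⟩ : ↥Γ) := by
    rw [MulEquiv.symm_apply_eq]; rfl
  simp only [MulEquiv.trans_apply, e1]
  rfl

/-- The class of the common neighbours is the class of reflections of norm one, modulo the centres. -/
theorem common_class {G : Type*} [Group G] (A : TransTable G 3510) (hZ : A.Z = Fi22U62.tabP) (hk : A.k = 9)
    (hp : A.pts = Fi22Out.pts) {S : Set G}
    (hS : S = perp (conjugatesOf A.d) (A.x 0) ∩ perp (conjugatesOf A.d) (A.x 1)) :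
    ∃ e : ↥(Subgroup.closure S) ⧸ Subgroup.center ↥(Subgroup.closure S) ≃*
        ↥(Cfsg.reflectionSubgroup qPath (1 : ZMod 3)) ⧸ Subgroup.center ↥(Cfsg.reflectionSubgroup qPath (1 : ZMod 3)),
      e '' (QuotientGroup.mk '' {g : ↥(Subgroup.closure S) | (g : G) ∈ S}) =
        (QuotientGroup.mk : ↥(Cfsg.reflectionSubgroup qPath (1 : ZMod 3)) → _) ''
          {g : ↥(Cfsg.reflectionSubgroup qPath (1 : ZMod 3)) |
            (g : ↥(Cfsg.isometryGroup (ZMod 3) qPath)) ∈ Cfsg.reflectionsOfNorm qPath (1 : ZMod 3)} := by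
  obtain ⟨el, hinj, hR, hconj⟩ := common_family A hZ hk hp
  rw [hR] at hS
  subst hS
  let a : Fin 126 → ↥(Subgroup.closure (Set.range el)) := fun i => ⟨el i, Subgroup.subset_closure ⟨i, rfl⟩⟩
  let b : Fin 126 → ↥(Cfsg.reflectionSubgroup qPath (1 : ZMod 3)) := fun i =>
    ⟨reflAt i, Subgroup.subset_closure (reflections_eq_range ▸ ⟨i, rfl⟩)⟩
  obtain ⟨e, he⟩ := quot_center_pair (X := ↥(Subgroup.closure (Set.range el)))
    (Y := ↥(Cfsg.reflectionSubgroup qPath (1 : ZMod 3))) (by norm_num) a b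
    (fun i j h => hinj (congrArg Subtype.val h)) (fun i j h => reflAt_injective (congrArg Subtype.val h))
    (closure_range_lift el rfl) (closure_range_lift reflAt reflections_eq_range) gidx gperm ⟨0, by norm_num⟩
    gidx_zero gperm_parent (fun k i => Subtype.ext (hconj k i)) (fun k i => Subtype.ext (reflAt_conj k i))
  refine ⟨e, ?_⟩
  have h1 : {g : ↥(Subgroup.closure (Set.range el)) | (g : G) ∈ Set.range el} = Set.range a := by
    ext g
    exact ⟨fun ⟨i, hi⟩ => ⟨i, Subtype.ext hi⟩, fun ⟨i, hi⟩ => ⟨i, congrArg Subtype.val hi⟩⟩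
  have h2 : {g : ↥(Cfsg.reflectionSubgroup qPath (1 : ZMod 3)) |
      (g : ↥(Cfsg.isometryGroup (ZMod 3) qPath)) ∈ Cfsg.reflectionsOfNorm qPath (1 : ZMod 3)} = Set.range b := by
    ext g
    rw [Set.mem_ofPred, reflections_eq_range]
    exact ⟨fun ⟨i, hi⟩ => ⟨i, Subtype.ext hi⟩, fun ⟨i, hi⟩ => ⟨i, congrArg Subtype.val hi⟩⟩
  rw [h1, h2, ← Set.range_comp, ← Set.range_comp, ← Set.range_comp]
  exact congrArg Set.range (funext he)

end Cfsg.Lib.Fischer.Fi22Type
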