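import Cfsg.Agent.Lib.Linear.OrthReflThree
import Cfsg.Agent.Lib.Fischer.Fi22Type.Data

/-!
# The six-dimensional form of the diagram A6 over three elements and its norm one points
-/

set_option autoImplicit false
set_option maxRecDepth 100000

namespace Cfsg.Lib.Fischer.Fi22Type

open Cfsg.Lib.Linear.Orth
open scoped Matrix

/-- The form. -/
def qPath (v : Fin 6 → ZMod 3) : ZMod 3 :=
  v 0 * v 0 + v 1 * v 1 + v 2 * v 2 + v 3 * v 3 + v 4 * v 4 + v 5 * v 5 -
    (v 0 * v 1 + v 1 * v 2 + v 2 * v 3 + v 3 * v 4 + v 4 * v 5)

/-- Its polar form. -/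
def bPath (v w : Fin 6 → ZMod 3) : ZMod 3 :=
  2 * (v 0 * w 0 + v 1 * w 1 + v 2 * w 2 + v 3 * w 3 + v 4 * w 4 + v 5 * w 5) -
    (v 0 * w 1 + v 1 * w 0 + v 1 * w 2 + v 2 * w 1 + v 2 * w 3 + v 3 * w 2 + v 3 * w 4 + v 4 * w 3 +
      v 4 * w 5 + v 5 * w 4)

/-- The polar form, bilinear. -/
def bLin : LinearMap.BilinForm (ZMod 3) (Fin 6 → ZMod 3) :=
  LinearMap.mk₂ (ZMod 3) bPath (fun a b c => by simp only [bPath, Pi.add_apply]; ring)
    (fun r a b => by simp only [bPath, Pi.smul_apply, smul_eq_mul]; ring)
    (fun a b c => by simp only [bPath, Pi.add_apply]; ring)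
    (fun r a b => by simp only [bPath, Pi.smul_apply, smul_eq_mul]; ring)

/-- The quadratic form. -/
def formPath : QuadraticForm (ZMod 3) (Fin 6 → ZMod 3) :=
  QuadraticMap.ofPolar qPath (fun a v => by simp only [qPath, Pi.smul_apply, smul_eq_mul]; ring)
    (fun x x' y => by simp only [QuadraticMap.polar, qPath, Pi.add_apply]; ring)
    (fun a x y => by simp only [QuadraticMap.polar, qPath, Pi.add_apply, Pi.smul_apply, smul_eq_mul]; ring)

theorem coe_formPath : ⇑formPath = qPath := rfl

theorem polar_eq (u v : Fin 6 → ZMod 3) : QuadraticMap.polar qPath u v = bPath u v := by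
  simp only [QuadraticMap.polar, qPath, bPath, Pi.add_apply]; ring

theorem radical_zero : ∀ v : Fin 6 → ZMod 3, (∀ i, bPath (Pi.single i 1) v = 0) → v = 0 := by
  decide +kernel

theorem space : Space qPath bLin where
  smul c v := by simp only [qPath, Pi.smul_apply, smul_eq_mul]; ring
  polar u v := polar_eq u v
  nondeg v h := radical_zero v fun i => h _

theorem formPath_nondegenerate : (QuadraticMap.polarBilin formPath).Nondegenerate := by
  have h : ∀ u v, QuadraticMap.polarBilin formPath u v = bPath u v := fun u v => polar_eq u v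
  refine ⟨fun x hx => radical_zero x fun i => ?_, fun y hy => radical_zero y fun i => ?_⟩
  · rw [← h, QuadraticMap.polarBilin_apply_apply, QuadraticMap.polar_comm, ← QuadraticMap.polarBilin_apply_apply]
    exact hx _
  · rw [← h]; exact hy _

theorem formPath_det : Cfsg.polarGramDet (⇑formPath) = 1 := by
  rw [Cfsg.polarGramDet, coe_formPath]
  have : (Matrix.of fun i j : Fin 6 => QuadraticMap.polar qPath (Pi.single i 1) (Pi.single j 1)) =
      Matrix.of fun i j : Fin 6 => bPath (Pi.single i 1) (Pi.single j 1) := by
    ext i j; rw [Matrix.of_apply, Matrix.of_apply, polar_eq]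
  rw [this]
  decide +kernel

/-- The vector with the given base three digits. -/
def digVec (n : Nat) : Fin 6 → ZMod 3 := fun i => ((n / 3 ^ i.val : Nat) : ZMod 3)

/-- The code of a vector. -/
def digCode (v : Fin 6 → ZMod 3) : Nat :=
  (v 0).val + 3 * (v 1).val + 9 * (v 2).val + 27 * (v 3).val + 81 * (v 4).val + 243 * (v 5).val

/-- The vector at a place. -/
def lineVec (i : Nat) : Fin 6 → ZMod 3 := digVec (vecList.getD i 0)

/-- The vector of a generator. -/
def genVec (k : Nat) : Fin 6 → ZMod 3 := lineVec (genIdx.getD k 0)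

/-- The reflection in a vector of norm one. -/
def reflOne (w v : Fin 6 → ZMod 3) : Fin 6 → ZMod 3 := fun i => v i - bPath w v * w i

/-- Equality of vectors, as a boolean. -/
def eqVec (v w : Fin 6 → ZMod 3) : Bool := (List.finRange 6).all fun i => v i == w i

/-- Equality up to sign, as a boolean. -/
def eqLine (v w : Fin 6 → ZMod 3) : Bool := eqVec v w || eqVec v (fun i => - w i)

theorem eqLine_iff {v w : Fin 6 → ZMod 3} : eqLine v w = true ↔ v = w ∨ v = -w := by
  simp only [eqLine, eqVec, Bool.or_eq_true, List.all_eq_true, List.mem_finRange, true_implies, beq_iff_eq]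
  constructor
  · rintro (h | h)
    exacts [Or.inl (funext h), Or.inr (funext h)]
  · rintro (rfl | rfl)
    exacts [Or.inl fun _ => rfl, Or.inr fun _ => rfl]

/-- The vectors are permuted by the generating reflections as listed. -/
def reflPermOK : Bool :=
  (List.range 7).all fun k => (List.range 126).all fun i =>
    eqLine (reflOne (genVec k) (lineVec i)) (lineVec ((genPerm.getD k []).getD i 0))

theorem reflPerm_ok : reflPermOK = true := by decide +kernel

/-- The vectors have norm one and distinct lines. -/
def lineListOK : Bool :=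
  (List.range 126).all fun i => qPath (lineVec i) == 1 &&
    (List.range 126).all fun j => Nat.beq i j || !(eqLine (lineVec i) (lineVec j))

theorem lineList_ok : lineListOK = true := by decide +kernel

/-- Every vector of norm one is listed up to sign. -/
def lineCoverOK : Bool :=
  (List.range 729).all fun n => !(qPath (digVec n) == 1) ||
    (List.range 126).any fun i => eqLine (digVec n) (lineVec i)

theorem lineCover_ok : lineCoverOK = true := by decide +kernel

theorem digVec_code : ∀ v : Fin 6 → ZMod 3, digVec (digCode v) = v := by decide +kernel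

theorem digCode_lt (v : Fin 6 → ZMod 3) : digCode v < 729 := by
  have h : ∀ i, (v i).val < 3 := fun i => ZMod.val_lt _
  have := h 0; have := h 1; have := h 2; have := h 3; have := h 4; have := h 5
  simp only [digCode]; omega

end Cfsg.Lib.Fischer.Fi22Type
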